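import Mathlib

/-!
# Approximating formal arcs on affine space by polynomial ones
-/

set_option autoImplicit false
set_option maxHeartbeats 1000000

universe u

open PowerSeries

noncomputable section

namespace Groth.Agent.RGermLib

variable {K : Type u} [Field K]

/-- Power series inside Laurent series. -/
abbrev emb : PowerSeries K →+* (LaurentSeries K) := HahnSeries.ofPowerSeries ℤ K

/-- The variable in Laurent series. -/
abbrev tt : (LaurentSeries K) := emb (PowerSeries.X : PowerSeries K)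

theorem emb_injective : Function.Injective (emb : PowerSeries K →+* (LaurentSeries K)) := HahnSeries.ofPowerSeries_injective

theorem tt_ne_zero : (tt : (LaurentSeries K)) ≠ 0 := (map_ne_zero_iff _ emb_injective).2 PowerSeries.X_ne_zero

/-- Congruence modulo a power of the variable. -/
def Close (N : ℕ) (x y : (LaurentSeries K)) : Prop := ∃ z, x - y = tt ^ N * emb z

theorem Close.mono {N N' : ℕ} {x y : (LaurentSeries K)} (h : Close N' x y) (hN : N ≤ N') : Close N x y := by
  obtain ⟨z, hz⟩ := h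
  refine ⟨PowerSeries.X ^ (N' - N) * z, ?_⟩
  rw [hz, map_mul, map_pow, ← mul_assoc, ← pow_add, Nat.add_sub_cancel' hN]

theorem exists_bound (x : (LaurentSeries K)) : ∃ (M : ℕ) (z : PowerSeries K), tt ^ M * x = emb z := by
  obtain ⟨⟨z, ⟨_, M, rfl⟩⟩, hz⟩ := IsLocalization.surj (Submonoid.powers (PowerSeries.X : PowerSeries K)) x
  refine ⟨M, z, ?_⟩
  simpa [mul_comm, tt, LaurentSeries.coe_algebraMap] using hz

section Cont

variable {σ : Type*} (v : σ → (LaurentSeries K))

/-- Continuity at a tuple, for congruences modulo powers of the variable. -/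
def Cont (F : (σ → (LaurentSeries K)) → (LaurentSeries K)) : Prop :=
  ∀ N : ℕ, ∃ N' : ℕ, ∀ w : σ → (LaurentSeries K), (∀ i, Close N' (w i) (v i)) → Close N (F w) (F v)

variable {v}

theorem cont_const (c : (LaurentSeries K)) : Cont v fun _ => c := fun _ => ⟨0, fun _ _ => ⟨0, by simp⟩⟩

theorem cont_proj (i : σ) : Cont v fun w => w i := fun N => ⟨N, fun _ h => h i⟩

theorem Cont.add {F G : (σ → (LaurentSeries K)) → (LaurentSeries K)} (hF : Cont v F) (hG : Cont v G) : Cont v fun w => F w + G w := fun N => by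
  obtain ⟨a, ha⟩ := hF N
  obtain ⟨b, hb⟩ := hG N
  refine ⟨max a b, fun w hw => ?_⟩
  obtain ⟨z, hz⟩ := ha w fun i => (hw i).mono (le_max_left _ _)
  obtain ⟨z', hz'⟩ := hb w fun i => (hw i).mono (le_max_right _ _)
  exact ⟨z + z', by rw [map_add, mul_add, ← hz, ← hz']; ring⟩

theorem Cont.mul {F G : (σ → (LaurentSeries K)) → (LaurentSeries K)} (hF : Cont v F) (hG : Cont v G) : Cont v fun w => F w * G w := fun N => by
  obtain ⟨M, u, hu⟩ := exists_bound (F v)
  obtain ⟨M', u', hu'⟩ := exists_bound (G v)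
  obtain ⟨a, ha⟩ := hF (N + M')
  obtain ⟨b, hb⟩ := hG (N + M)
  refine ⟨max a b, fun w hw => ?_⟩
  obtain ⟨z, hz⟩ := ha w fun i => (hw i).mono (le_max_left _ _)
  obtain ⟨z', hz'⟩ := hb w fun i => (hw i).mono (le_max_right _ _)
  refine ⟨z * u' + u * z' + PowerSeries.X ^ N * (z * z') * PowerSeries.X ^ M * PowerSeries.X ^ M', ?_⟩
  show F w * G w - F v * G v = _
  rw [sub_eq_iff_eq_add.1 hz, sub_eq_iff_eq_add.1 hz']
  simp only [map_add, map_mul, map_pow, ← hu, ← hu', pow_add]
  ring

theorem Cont.pow {F : (σ → (LaurentSeries K)) → (LaurentSeries K)} (hF : Cont v F) : ∀ m : ℕ, Cont v fun w => F w ^ m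
  | 0 => by simpa using cont_const 1
  | m + 1 => by simpa [pow_succ] using (hF.pow m).mul hF

theorem Cont.exists_ne_zero {F : (σ → (LaurentSeries K)) → (LaurentSeries K)} (hF : Cont v F) (h : F v ≠ 0) :
    ∃ N', ∀ w : σ → (LaurentSeries K), (∀ i, Close N' (w i) (v i)) → F w ≠ 0 := by
  obtain ⟨e, u, hu⟩ := exists_bound (F v)⁻¹
  obtain ⟨N', hN'⟩ := hF (e + 1)
  refine ⟨N', fun w hw h0 => ?_⟩
  obtain ⟨z, hz⟩ := hN' w hw
  rw [h0, zero_sub] at hz
  have : (emb (-1) : (LaurentSeries K)) = emb (PowerSeries.X * (z * u)) := by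
    simp only [map_neg, map_one, map_mul, ← hu]
    field_simp
    linear_combination hz
  simpa using congrArg constantCoeff (emb_injective this)

theorem Cont.inv {F : (σ → (LaurentSeries K)) → (LaurentSeries K)} (hF : Cont v F) (h : F v ≠ 0) : Cont v fun w => (F w)⁻¹ := fun N => by
  obtain ⟨e, u, hu⟩ := exists_bound (F v)⁻¹
  obtain ⟨a, ha⟩ := hF.exists_ne_zero h
  obtain ⟨b, hb⟩ := hF (N + 2 * e + 1)
  refine ⟨max a b, fun w hw => ?_⟩
  have hw0 := ha w fun i => (hw i).mono (le_max_left _ _)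
  obtain ⟨z, hz⟩ := hb w fun i => (hw i).mono (le_max_right _ _)
  let D : PowerSeries K := 1 + PowerSeries.X ^ (N + e + 1) * (z * u)
  have hD : constantCoeff D ≠ 0 := by simp [D]
  have hFD : F w = F v * emb D := by
    rw [sub_eq_iff_eq_add.1 hz]
    simp only [D, map_add, map_one, map_mul, map_pow, ← hu, pow_add, pow_mul, pow_one]
    field_simp
    ring
  refine ⟨-(PowerSeries.X * z * u * u * D⁻¹), ?_⟩
  have hDi : emb D * emb D⁻¹ = 1 := by rw [← map_mul, PowerSeries.mul_inv_cancel D hD, map_one]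
  have hz' : F w - F v = tt ^ N * tt ^ e * tt ^ e * tt * emb z := by rw [hz]; ring
  have hu2 : (F v)⁻¹ * tt ^ e = emb u := by rw [mul_comm, hu]
  have hinv : (F w)⁻¹ = (F v)⁻¹ * emb D⁻¹ := by
    rw [hFD, mul_inv, inv_eq_of_mul_eq_one_right hDi]
  calc (F w)⁻¹ - (F v)⁻¹ = -(F w - F v) * (F w)⁻¹ * (F v)⁻¹ := by field_simp; ring
    _ = _ := by
      rw [hz', hinv]
      simp only [map_neg, map_mul, ← hu2]
      ring

variable {R : Type*} [CommRing R] [Algebra R (LaurentSeries K)]

theorem cont_aeval (p : MvPolynomial σ R) : Cont v fun w => MvPolynomial.aeval w p := by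
  induction p using MvPolynomial.induction_on with
  | C a => simpa using cont_const (algebraMap R (LaurentSeries K) a)
  | add p q hp hq => simpa using hp.add hq
  | mul_X p i hp => simpa using hp.mul (cont_proj i)

end Cont

/-- A Laurent polynomial. -/
def IsLP (x : (LaurentSeries K)) : Prop := ∃ (M : ℕ) (p : Polynomial K), tt ^ M * x = emb (p : PowerSeries K)

theorem exists_isLP_close (x : (LaurentSeries K)) (N : ℕ) : ∃ y : (LaurentSeries K), IsLP y ∧ Close N y x := by
  obtain ⟨M, z, hz⟩ := exists_bound x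
  refine ⟨(tt ^ M)⁻¹ * emb (trunc (N + M) z : PowerSeries K), ⟨M, trunc (N + M) z, ?_⟩, ?_⟩
  · rw [← mul_assoc, mul_inv_cancel₀ (pow_ne_zero _ tt_ne_zero), one_mul]
  · obtain ⟨z', hz'⟩ : PowerSeries.X ^ (N + M) ∣ (trunc (N + M) z : PowerSeries K) - z :=
      PowerSeries.X_pow_dvd_iff.2 fun m hm => by simp [PowerSeries.coeff_trunc, hm]
    refine ⟨z', ?_⟩
    rw [sub_eq_iff_eq_add.1 hz', map_add, map_mul, map_pow, ← hz, pow_add]
    field_simp [tt_ne_zero]
    ring

variable {k : Type u} [Field k] [Algebra k K]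

theorem algebraMap_laurent (r : k) : algebraMap k (LaurentSeries K) r = emb (PowerSeries.C (algebraMap k K r)) := by
  rw [HahnSeries.algebraMap_apply', PowerSeries.algebraMap_apply]

theorem isLP_aeval {σ : Type*} {w : σ → (LaurentSeries K)} (hw : ∀ i, IsLP (w i)) (p : MvPolynomial σ k) :
    IsLP (MvPolynomial.aeval w p) := by
  induction p using MvPolynomial.induction_on with
  | C a => exact ⟨0, Polynomial.C (algebraMap k K a), by simp [algebraMap_laurent]⟩
  | add p q hp hq =>
    obtain ⟨M, a, ha⟩ := hp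
    obtain ⟨M', b, hb⟩ := hq
    refine ⟨M + M', Polynomial.X ^ M' * a + Polynomial.X ^ M * b, ?_⟩
    simp only [map_add, Polynomial.coe_add, Polynomial.coe_mul, Polynomial.coe_pow, Polynomial.coe_X, map_mul, map_pow,
      ← ha, ← hb, pow_add]
    ring
  | mul_X p i hp =>
    obtain ⟨M, a, ha⟩ := hp
    obtain ⟨M', b, hb⟩ := hw i
    refine ⟨M + M', a * b, ?_⟩
    simp only [map_mul, MvPolynomial.aeval_X, Polynomial.coe_mul, ← ha, ← hb, pow_add]
    ring

theorem eq_coe_of_mul_X_pow (a : ℕ) (y : PowerSeries K) (p : Polynomial K) (h : y * (PowerSeries.X : PowerSeries K) ^ a = (p : PowerSeries K)) :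
    ∃ p' : Polynomial K, y = (p' : PowerSeries K) := by
  refine ⟨trunc (p.natDegree + 1) y, ?_⟩
  ext m
  rw [Polynomial.coeff_coe, PowerSeries.coeff_trunc]
  split_ifs with hm
  · rfl
  · have := congrArg (coeff (m + a)) h
    rw [PowerSeries.coeff_mul_X_pow, Polynomial.coeff_coe] at this
    rw [this, Polynomial.coeff_eq_zero_of_natDegree_lt (by omega)]

theorem coeff_eq_of_close {N : ℕ} {a b : PowerSeries K} (h : Close N (emb a) (emb b)) {m : ℕ} (hm : m < N) :
    coeff m a = coeff m b := by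
  obtain ⟨z, hz⟩ := h
  rw [← map_sub, ← map_pow, ← map_mul] at hz
  have := PowerSeries.X_pow_dvd_iff.1 ⟨z, emb_injective hz⟩ m hm
  rwa [map_sub, sub_eq_zero] at this

/-- An arc into an affine chart factoring through a rational map from affine space may be replaced by an
algebraic one with the same starting point, keeping a given function nonzero. -/
theorem exists_algebraic_arc [Infinite K] {n : ℕ} {A : Type u} [CommRing A] [Algebra k A] [Algebra.FiniteType k A]
    (χ : A →ₐ[k] PowerSeries K) (f : A) (hf : χ f ≠ 0) (h : MvPolynomial (Fin n) k) (v : Fin n → (LaurentSeries K))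
    (hv : MvPolynomial.aeval v h ≠ 0) (β : A →ₐ[k] Localization.Away h)
    (θ : Localization.Away h →ₐ[k] (LaurentSeries K)) (hθ : ∀ p : MvPolynomial (Fin n) k, θ (algebraMap _ _ p) = MvPolynomial.aeval v p)
    (hβ : ∀ a, θ (β a) = emb (χ a)) :
    ∃ (q : Polynomial K) (ψ : A →ₐ[k] Localization.Away q) (c : K), q.eval 0 ≠ 0 ∧ q.eval c ≠ 0 ∧
      (∀ e : Localization.Away q →+* K, e.comp (algebraMap _ _) = Polynomial.evalRingHom 0 →
        ∀ a, e (ψ a) = constantCoeff (χ a)) ∧
      ∀ e : Localization.Away q →+* K, e.comp (algebraMap _ _) = Polynomial.evalRingHom c → e (ψ f) ≠ 0 := by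
  classical
  obtain ⟨s, hs⟩ := (Algebra.FiniteType.out : (⊤ : Subalgebra k A).FG)
  obtain ⟨m₀, hm₀⟩ := PowerSeries.exists_coeff_ne_zero_iff_ne_zero.2 hf
  let T : Finset A := insert f s
  have hfrac : ∀ a : A, ∃ (p : MvPolynomial (Fin n) k) (m : ℕ), β a * algebraMap _ _ (h ^ m) = algebraMap _ _ p := fun a => by
    obtain ⟨⟨p, ⟨_, m, rfl⟩⟩, hp⟩ := IsLocalization.surj (Submonoid.powers h) (β a)
    exact ⟨p, m, hp⟩
  choose p m hpm using hfrac
  let F : A → (Fin n → (LaurentSeries K)) → (LaurentSeries K) := fun a w => MvPolynomial.aeval w (p a) * (MvPolynomial.aeval w h)⁻¹ ^ m a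
  have hFv : ∀ a, F a v = emb (χ a) := fun a => by
    rw [← hβ]
    have := congrArg θ (hpm a)
    rw [map_mul, hθ, hθ, map_pow] at this
    simp only [F, ← this, inv_pow]
    field_simp
  have hcont : ∀ a, ∃ N', ∀ w : Fin n → (LaurentSeries K), (∀ i, Close N' (w i) (v i)) → Close (m₀ + 1) (F a w) (F a v) := fun a =>
    ((cont_aeval (p a)).mul (((cont_aeval h).inv hv).pow (m a))) (m₀ + 1)
  choose N hN using hcont
  obtain ⟨N₀, hN₀⟩ := (cont_aeval (v := v) h).exists_ne_zero hv
  choose w hwLP hw using fun i => exists_isLP_close (v i) (max N₀ (T.sup N))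
  have hwh : MvPolynomial.aeval w h ≠ 0 := hN₀ w fun i => (hw i).mono (le_max_left _ _)
  let θ' : Localization.Away h →ₐ[k] (LaurentSeries K) := IsLocalization.liftAlgHom (M := Submonoid.powers h)
    (f := MvPolynomial.aeval w) (by
      rintro ⟨_, j, rfl⟩
      rw [map_pow]
      exact isUnit_iff_ne_zero.2 (pow_ne_zero _ hwh))
  have hθ' : ∀ p : MvPolynomial (Fin n) k, θ' (algebraMap _ _ p) = MvPolynomial.aeval w p := fun p => IsLocalization.lift_eq _ _
  let ψL : A →ₐ[k] (LaurentSeries K) := θ'.comp β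
  have hψL : ∀ a, ψL a = F a w := fun a => by
    have := congrArg θ' (hpm a)
    rw [map_mul, hθ', hθ', map_pow] at this
    simp only [F, ← this, inv_pow]
    show θ' (β a) = _
    field_simp
  obtain ⟨M, H, hH⟩ := isLP_aeval hwLP h
  have hH0 : H ≠ 0 := fun h0 => by
    rw [h0, Polynomial.coe_zero, map_zero] at hH
    exact mul_ne_zero (pow_ne_zero _ tt_ne_zero) hwh hH
  obtain ⟨q, hq, hq0⟩ := Polynomial.exists_eq_pow_rootMultiplicity_mul_and_not_dvd H hH0 0
  rw [map_zero, sub_zero] at hq hq0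
  have hq0' : q.eval 0 ≠ 0 := fun h0 => hq0 (by rw [Polynomial.X_dvd_iff, Polynomial.coeff_zero_eq_eval_zero]; exact h0)
  let ev : Polynomial K →ₐ[k] (LaurentSeries K) :=
    { (emb : PowerSeries K →+* (LaurentSeries K)).comp Polynomial.coeToPowerSeries.ringHom with
      commutes' := fun r => by simp [algebraMap_laurent] }
  have hev : ∀ P : Polynomial K, ev P = emb (P : PowerSeries K) := fun P => rfl
  let Λ : Localization.Away q →ₐ[k] (LaurentSeries K) := IsLocalization.liftAlgHom (M := Submonoid.powers q) (f := ev) (by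
    rintro ⟨_, j, rfl⟩
    rw [map_pow]
    exact isUnit_iff_ne_zero.2 (pow_ne_zero _ ((map_ne_zero_iff _ emb_injective).2
      (fun h0 => hq0' (by rw [Polynomial.coe_eq_zero_iff.1 h0, Polynomial.eval_zero])))))
  have hΛ : ∀ P : Polynomial K, Λ (algebraMap _ _ P) = ev P := fun P => IsLocalization.lift_eq _ _
  have hΛinj : Function.Injective Λ := by
    refine (IsLocalization.lift_injective_iff _).2 fun a b => ?_
    have hle : Submonoid.powers q ≤ nonZeroDivisors (Polynomial K) :=
      powers_le_nonZeroDivisors_of_noZeroDivisors fun h0 => hq0' (by rw [h0, Polynomial.eval_zero])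
    exact ⟨fun h => congrArg ev (IsLocalization.injective (Localization.Away q) hle h),
      fun h => congrArg _ (Polynomial.coe_injective K (emb_injective h))⟩
  have key : ∀ a ∈ T, ∃ (z : Localization.Away q) (y : PowerSeries K), Λ z = ψL a ∧ emb y = ψL a ∧
      ∀ i < m₀ + 1, coeff i y = coeff i (χ a) := by
    intro a ha
    obtain ⟨z', hz'⟩ := hN a w fun i => (hw i).mono ((Finset.le_sup ha).trans (le_max_right _ _))
    rw [hFv, ← hψL, sub_eq_iff_eq_add] at hz'
    set y : PowerSeries K := PowerSeries.X ^ (m₀ + 1) * z' + χ a with hy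
    have hyψ : emb y = ψL a := by rw [hz', hy, map_add, map_mul, map_pow]
    obtain ⟨M', P, hP⟩ := isLP_aeval hwLP (p a)
    have hth := congrArg θ' (hpm a)
    rw [map_mul, hθ', hθ', map_pow, show θ' (β a) = emb y from hyψ.symm] at hth
    let e : ℕ := H.rootMultiplicity 0
    have hmul : (y * (q : PowerSeries K) ^ m a) * PowerSeries.X ^ (e * m a + M') =
        ((P * Polynomial.X ^ (M * m a) : Polynomial K) : PowerSeries K) := by
      apply emb_injective
      have hH' : tt ^ M * MvPolynomial.aeval w h = tt ^ e * emb (q : PowerSeries K) := by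
        rw [hH]; conv_lhs => rw [hq]
        simp [Polynomial.coe_mul, Polynomial.coe_pow, e]
      simp only [map_mul, map_pow, Polynomial.coe_mul, Polynomial.coe_pow, Polynomial.coe_X, ← hP, ← hth, pow_add, pow_mul]
      have := congrArg (· ^ m a) hH'
      simp only [mul_pow] at this
      linear_combination (-(emb y * tt ^ M')) * this
    obtain ⟨P', hP'⟩ := eq_coe_of_mul_X_pow _ _ _ hmul
    refine ⟨IsLocalization.mk' _ P' (⟨q ^ m a, m a, rfl⟩ : Submonoid.powers q), y, ?_, hyψ,
      fun i hi => coeff_eq_of_close (N := m₀ + 1) ⟨z', ?_⟩ hi⟩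
    · rw [IsLocalization.liftAlgHom_apply, IsLocalization.lift_mk'_spec]
      show ev P' = ev (q ^ m a) * _
      rw [hev, hev, ← hP', Polynomial.coe_pow, map_mul, map_pow, ← hyψ, mul_comm]
    · rw [hyψ, hz', add_sub_cancel_right]
  have hrange : ∀ a, ψL a ∈ Λ.range := by
    intro a
    have : Algebra.adjoin k (s : Set A) ≤ Subalgebra.comap ψL Λ.range := Algebra.adjoin_le fun a ha => by
      obtain ⟨z, -, hz, -⟩ := key a (Finset.mem_insert_of_mem ha)
      exact ⟨z, hz⟩
    rw [hs] at this
    exact this trivial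
  let ψ : A →ₐ[k] Localization.Away q :=
    (AlgEquiv.ofInjective Λ hΛinj).symm.toAlgHom.comp (ψL.codRestrict Λ.range hrange)
  have hψ : ∀ a, Λ (ψ a) = ψL a := fun a => by
    have := (AlgEquiv.ofInjective Λ hΛinj).apply_symm_apply (ψL.codRestrict Λ.range hrange a)
    exact congrArg Subtype.val this
  have hfrac' : ∀ z : Localization.Away q, ∀ y : PowerSeries K, Λ z = emb y → ∃ (P : Polynomial K) (j : ℕ),
      z * algebraMap _ _ (q ^ j) = algebraMap _ _ P ∧ y * (q : PowerSeries K) ^ j = P := by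
    intro z y hy
    obtain ⟨⟨P, ⟨_, j, rfl⟩⟩, hP⟩ := IsLocalization.surj (Submonoid.powers q) z
    refine ⟨P, j, hP, emb_injective ?_⟩
    have := congrArg Λ hP
    rw [map_mul, hΛ, hΛ, hy, hev, hev] at this
    simpa using this
  obtain ⟨zf, yf, hzf, hyf, hcf⟩ := key f (Finset.mem_insert_self _ _)
  obtain ⟨P, j, hP, hyP⟩ := hfrac' _ yf ((hψ f).trans hyf.symm)
  have hP0 : P ≠ 0 := fun h0 => hm₀ (by
    rw [← hcf m₀ (by omega)]
    have hy0 : yf = 0 := by
      rw [h0, Polynomial.coe_zero] at hyP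
      exact (mul_eq_zero.1 hyP).resolve_right (pow_ne_zero _ fun hh => hq0' (by
        rw [Polynomial.coe_eq_zero_iff.1 hh, Polynomial.eval_zero]))
    rw [hy0, map_zero])
  obtain ⟨c, hc⟩ : ∃ c, (P * q).eval c ≠ 0 := by
    by_contra! hcon
    have hqne : q ≠ 0 := fun h0 => hq0' (by rw [h0, Polynomial.eval_zero])
    exact mul_ne_zero hP0 hqne (Polynomial.funext fun c => by rw [hcon c, Polynomial.eval_zero])
  rw [Polynomial.eval_mul] at hc
  refine ⟨q, ψ, c, hq0', right_ne_zero_of_mul hc, fun e he a => ?_, fun e he h0 => left_ne_zero_of_mul hc ?_⟩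
  · have hk : ∀ r : k, e (algebraMap k (Localization.Away q) r) = algebraMap k K r := fun r => by
      rw [IsScalarTower.algebraMap_apply k (Polynomial K) (Localization.Away q), ← RingHom.comp_apply e, he]
      simp
    let e' : Localization.Away q →ₐ[k] K := { e with commutes' := hk }
    let cc : PowerSeries K →ₐ[k] K := { (constantCoeff : PowerSeries K →+* K) with
      commutes' := fun r => by simp [PowerSeries.algebraMap_apply] }
    suffices e'.comp ψ = cc.comp χ from DFunLike.congr_fun this a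
    refine AlgHom.ext_of_adjoin_eq_top hs fun a ha => ?_
    obtain ⟨-, y, -, hy, hcy⟩ := key a (Finset.mem_insert_of_mem ha)
    obtain ⟨P, j, hP, hyP⟩ := hfrac' _ y ((hψ a).trans hy.symm)
    have h1 := congrArg e hP
    rw [map_mul, ← RingHom.comp_apply e, ← RingHom.comp_apply e, he] at h1
    have h2 := congrArg constantCoeff hyP
    rw [map_mul, map_pow, Polynomial.constantCoeff_coe, Polynomial.constantCoeff_coe] at h2
    show e (ψ a) = constantCoeff (χ a)
    rw [← coeff_zero_eq_constantCoeff_apply, ← hcy 0 (by omega), coeff_zero_eq_constantCoeff_apply]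
    refine mul_right_cancel₀ (pow_ne_zero j hq0') ?_
    simp only [Polynomial.coe_evalRingHom, Polynomial.eval_pow] at h1
    rw [h1, ← Polynomial.coeff_zero_eq_eval_zero, ← Polynomial.coeff_zero_eq_eval_zero, h2]
  · have h1 := congrArg e hP
    rw [map_mul, h0, zero_mul, ← RingHom.comp_apply e, he] at h1
    exact h1.symm

end Groth.Agent.RGermLib
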