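import Groth.Agent.RegLocal.Basic
import Groth.Agent.Comodule.ChevalleyLocal

/-!
# Formal arcs through rational points of regular local algebras
-/

set_option autoImplicit false
set_option maxHeartbeats 1000000

universe u

open IsLocalRing PowerSeries
open scoped TensorProduct

namespace Groth.Agent.RGermLib

/-- An arc through a rational point of a regular local algebra of dimension at most one. -/
theorem exists_arc_of_span {K B : Type u} [Field K] [CommRing B] [IsLocalRing B] [IsNoetherianRing B] [IsDomain B]
    [Algebra K B] (ρ : B →ₐ[K] K) (π : B) (hπ : π ≠ 0) (hker : ∀ b, ρ b = 0 → π ∣ b) (hρπ : ρ π = 0) :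
    ∃ χ : B →ₐ[K] PowerSeries K, Function.Injective χ ∧ ∀ b, constantCoeff (χ b) = ρ b := by
  have hdiv : ∀ b, ∃ c, b - algebraMap K B (ρ b) = π * c := fun b => hker _ (by simp)
  choose r hr using hdiv
  have uniq : ∀ b c, b - algebraMap K B (ρ b) = π * c → r b = c :=
    fun b c h => mul_left_cancel₀ hπ ((hr b).symm.trans h)
  have radd : ∀ b c, r (b + c) = r b + r c := fun b c => uniq _ _ (by
    rw [mul_add, ← hr, ← hr, map_add, map_add]; ring)
  have rmul : ∀ b c, r (b * c) = r b * c + algebraMap K B (ρ b) * r c := fun b c => uniq _ _ (by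
    rw [mul_add, ← mul_assoc, ← hr, mul_left_comm, ← hr, map_mul, map_mul]; ring)
  have rconst : ∀ a : K, r (algebraMap K B a) = 0 := fun a => uniq _ _ (by simp)
  have rsmul : ∀ (a : K) b, r (algebraMap K B a * b) = algebraMap K B a * r b := fun a b => by
    rw [rmul, rconst, AlgHom.commutes, Algebra.algebraMap_self, RingHom.id_apply]; ring
  let cf : ℕ → B → K := fun n b => ρ (r^[n] b)
  have itadd : ∀ n b c, r^[n] (b + c) = r^[n] b + r^[n] c := by
    intro n
    induction n with
    | zero => simp
    | succ n ih => intro b c; simp [Function.iterate_succ, radd, ih]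
  have itsmul : ∀ n a b, r^[n] (algebraMap K B a * b) = algebraMap K B a * r^[n] b := by
    intro n
    induction n with
    | zero => simp
    | succ n ih => intro a b; simp [Function.iterate_succ, rsmul, ih]
  have cfmul : ∀ n b c, cf n (b * c) = ∑ p ∈ Finset.HasAntidiagonal.antidiagonal n, cf p.1 b * cf p.2 c := by
    intro n
    induction n with
    | zero => intro b c; simp [cf]
    | succ n ih =>
      intro b c
      rw [Finset.Nat.antidiagonal_succ, Finset.sum_cons, Finset.sum_map]
      simp only [cf, Function.iterate_succ, Function.comp_apply, rmul, itadd, itsmul, map_add, map_mul,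
        AlgHom.commutes, Algebra.algebraMap_self, RingHom.id_apply]
      rw [show ρ (r^[n] (r b * c)) = _ from ih (r b) c, add_comm]
      congr 1
  let χ : B →ₐ[K] PowerSeries K :=
    { toFun := fun b => PowerSeries.mk fun n => cf n b
      map_one' := by
        ext n
        rcases n with _ | n
        · simp [cf]
        · have h0 : ∀ m, r^[m] (0 : B) = 0 := Function.iterate_fixed (by simpa using rconst 0)
          have := rconst 1
          rw [map_one] at this
          simp [cf, Function.iterate_succ, this, h0]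
      map_mul' := fun b c => by
        ext n
        simp [PowerSeries.coeff_mul, cfmul]
      map_zero' := by
        ext n
        simp [cf, Function.iterate_fixed (show r 0 = 0 by simpa using rconst 0) n]
      map_add' := fun b c => by
        ext n
        simp [cf, itadd]
      commutes' := fun a => by
        ext n
        rcases n with _ | n
        · simp [cf]
        · simp [cf, Function.iterate_succ, rconst, Function.iterate_fixed (show r 0 = 0 by simpa using rconst 0) n] }
  refine ⟨χ, (injective_iff_map_eq_zero χ).2 fun b hb => ?_, fun b => by simp [χ, cf]⟩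
  have hz : ∀ n, cf n b = 0 := fun n => by
    have := congrArg (coeff n) hb
    simpa [χ] using this
  have hmem : ∀ n b, (∀ i, cf i b = 0) → b ∈ Ideal.span {π} ^ n := by
    intro n
    induction n with
    | zero => simp
    | succ n ih =>
      intro b h
      have h0 : ρ b = 0 := h 0
      have hb' := hr b
      rw [h0, map_zero, sub_zero] at hb'
      rw [hb', pow_succ']
      exact Ideal.mul_mem_mul (Ideal.mem_span_singleton_self π)
        (ih _ fun i => by simpa [cf, Function.iterate_succ] using h (i + 1))
  have hne : Ideal.span {π} ≠ ⊤ := fun h => by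
    obtain ⟨c, hc⟩ := Ideal.mem_span_singleton.1 (h ▸ Submodule.mem_top : (1 : B) ∈ Ideal.span {π})
    simpa [hρπ] using congrArg ρ hc
  have : b ∈ ⨅ n, Ideal.span {π} ^ n := Submodule.mem_iInf _ |>.2 fun n => hmem n b hz
  rwa [Ideal.iInf_pow_eq_bot_of_isDomain _ hne] at this

/-- A nonzero element of a regular local algebra with rational residue field is nonzero on some formal arc. -/
theorem exists_arc : ∀ (d : ℕ) {K B : Type u} [Field K] [CommRing B] [IsRegularLocalRing B] [Algebra K B],
    ringKrullDim B = d → ∀ (ρ : B →ₐ[K] K) (f : B), f ≠ 0 →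
    ∃ χ : B →ₐ[K] PowerSeries K, χ f ≠ 0 ∧ ∀ b, constantCoeff (χ b) = ρ b := by
  intro d
  induction d using Nat.strong_induction_on with
  | _ d ih =>
  intro K B _ _ _ _ hd ρ f hf
  haveI : IsDomain B := RegLocal.isDomain B
  have hker : maximalIdeal B = RingHom.ker ρ := by
    refine (eq_maximalIdeal (RingHom.ker_isMaximal_of_surjective ρ fun a => ⟨algebraMap K B a, ?_⟩)).symm
    simp
  have hn : (maximalIdeal B).spanFinrank = d := by
    have := IsRegularLocalRing.spanFinrank_maximalIdeal (R := B)
    rw [hd] at this; exact_mod_cast this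
  rcases Nat.lt_or_ge d 2 with hd2 | hd2
  · rcases Nat.lt_or_ge d 1 with hd1 | hd1
    · have hbot : maximalIdeal B = ⊥ :=
        (Submodule.spanFinrank_eq_zero_iff_eq_bot (maximalIdeal B).fg_of_isNoetherianRing).mp (by omega)
      refine ⟨(Algebra.ofId K (PowerSeries K)).comp ρ, fun h => hf ?_, fun b => by simp [Algebra.ofId_apply]⟩
      rw [← Ideal.mem_bot, ← hbot, hker, RingHom.mem_ker]
      simpa [Algebra.ofId_apply] using congrArg constantCoeff h
    · obtain ⟨x, hx⟩ := RegLocal.exists_generators B
      obtain ⟨π, hsp⟩ : ∃ π, Ideal.span {π} = maximalIdeal B := by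
        have h0 : 0 < (maximalIdeal B).spanFinrank := by omega
        refine ⟨x ⟨0, h0⟩, Eq.trans ?_ hx⟩
        congr 1
        ext y
        simp only [Set.mem_singleton_iff, Set.mem_range]
        constructor
        · rintro rfl; exact ⟨_, rfl⟩
        · rintro ⟨i, rfl⟩; congr 1; ext; have := i.2; omega
      have hπ : π ≠ 0 := fun h => by
        rw [h, Ideal.span_singleton_eq_bot.2 rfl] at hsp
        rw [← hsp, Submodule.spanFinrank_bot] at hn
        omega
      obtain ⟨χ, hχ, hχ0⟩ := exists_arc_of_span ρ π hπ
        (fun b hb => Ideal.mem_span_singleton.1 (by rw [hsp, hker, RingHom.mem_ker]; exact hb))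
        (by rw [← RingHom.mem_ker, ← hker, ← hsp]; exact Ideal.mem_span_singleton_self π)
      exact ⟨χ, (map_ne_zero_iff χ hχ).2 hf, hχ0⟩
  · classical
    have hfin : (Ideal.span {f}).minimalPrimes.Finite := Ideal.finite_minimalPrimes_of_isNoetherianRing B _
    have hm2 : ¬ maximalIdeal B ≤ maximalIdeal B ^ 2 := fun h => by
      have hbot : maximalIdeal B = ⊥ :=
        Submodule.eq_bot_of_le_smul_of_le_jacobson_bot _ _ (maximalIdeal B).fg_of_isNoetherianRing
          (by rwa [smul_eq_mul, ← sq]) (maximalIdeal_le_jacobson _)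
      rw [hbot, Submodule.spanFinrank_bot] at hn; omega
    have hnotmin : ∀ p ∈ (Ideal.span {f}).minimalPrimes, ¬ maximalIdeal B ≤ p := by
      intro p hp h
      haveI : p.IsPrime := hp.1.1
      have heq : maximalIdeal B = p := (maximalIdeal.isMaximal B).eq_of_le this.ne_top h
      have h1 := Ideal.height_le_one_of_isPrincipal_of_mem_minimalPrimes (Ideal.span {f}) p hp
      rw [← heq] at h1
      have h2 := IsLocalRing.maximalIdeal_height_eq_ringKrullDim (R := B)
      rw [hd] at h2
      have h3 : (maximalIdeal B).height = (d : ℕ∞) := by exact_mod_cast h2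
      rw [h3] at h1
      have : d ≤ 1 := by exact_mod_cast h1
      omega
    obtain ⟨x, hxm, hx2, hxp⟩ : ∃ x ∈ maximalIdeal B, x ∉ maximalIdeal B ^ 2 ∧
        ∀ p ∈ (Ideal.span {f}).minimalPrimes, x ∉ p := by
      by_contra! hcon
      have hsub : (maximalIdeal B : Set B) ⊆
          ⋃ p ∈ ((insert (maximalIdeal B ^ 2) hfin.toFinset : Finset (Ideal B)) : Set (Ideal B)),
            (p : Set B) := by
        intro x hx
        by_cases h2 : x ∈ maximalIdeal B ^ 2
        · exact Set.mem_biUnion (by simp) h2
        · obtain ⟨p, hp, hxp⟩ := hcon x hx h2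
          exact Set.mem_biUnion (by simp [hp]) hxp
      obtain ⟨p, hp, hle⟩ := (Ideal.subset_union_prime (maximalIdeal B ^ 2) (maximalIdeal B ^ 2)
        (fun p hp hne _ => by
          rcases Finset.mem_insert.mp hp with rfl | hp
          · exact absurd rfl hne
          · exact (hfin.mem_toFinset.mp hp).1.1)).mp hsub
      rcases Finset.mem_insert.mp hp with rfl | hp
      · exact hm2 hle
      · exact hnotmin p (hfin.mem_toFinset.mp hp) hle
    obtain ⟨hreg, -, hdim⟩ := RegLocal.quot_singleton B hd hxm hx2
    haveI := hreg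
    haveI : IsDomain (B ⧸ Ideal.span {x}) := RegLocal.isDomain _
    have hP : (Ideal.span {x}).IsPrime := (Ideal.Quotient.isDomain_iff_prime _).mp inferInstance
    have hfx : Ideal.Quotient.mk (Ideal.span {x}) f ≠ 0 := fun h => by
      rw [Ideal.Quotient.eq_zero_iff_mem] at h
      obtain ⟨p, hp, hpx⟩ := Ideal.exists_minimalPrimes_le (J := Ideal.span {x}) (I := Ideal.span {f})
        ((Ideal.span_singleton_le_iff_mem _).2 h)
      have hh : (Ideal.span {x}).height ≤ p.height := by
        haveI := hp.1.1
        refine (Ideal.height_le_one_of_isPrincipal_of_mem_minimalPrimes (Ideal.span {x}) (Ideal.span {x}) ?_).trans ?_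
        · rw [Ideal.minimalPrimes_eq_subsingleton_self]; rfl
        · refine ENat.one_le_iff_ne_zero.2 fun h0 => ?_
          have hp0 : p ∈ minimalPrimes B := Ideal.height_eq_zero_iff.1 h0
          rw [IsDomain.minimalPrimes_eq_singleton_bot, Set.mem_singleton_iff] at hp0
          exact hf (Ideal.mem_bot.1 (hp0 ▸ hp.1.2 (Ideal.mem_span_singleton_self f)))
      rcases eq_or_lt_of_le hpx with h' | h'
      · exact hxp p hp (h' ▸ Ideal.mem_span_singleton_self x)
      · haveI := hp.1.1
        exact not_lt.2 hh (Ideal.height_strict_mono_of_isPrime h')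
    have hxρ : Ideal.span {x} ≤ RingHom.ker ρ := (Ideal.span_singleton_le_iff_mem _).2 (hker ▸ hxm)
    obtain ⟨χ, hχ, hχ0⟩ := ih (d - 1) (by omega) hdim (Ideal.Quotient.liftₐ _ ρ fun a ha => hxρ ha)
      (Ideal.Quotient.mk _ f) hfx
    exact ⟨χ.comp (Ideal.Quotient.mkₐ K _), hχ, fun b => (hχ0 _).trans (Ideal.Quotient.lift_mk _ _ _)⟩

/-- A nonzero element of a smooth domain is nonzero on some formal arc through a given point. -/
theorem exists_smooth_arc {k K A : Type u} [Field k] [Field K] [Algebra k K] [CommRing A] [IsDomain A]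
    [Algebra k A] [Algebra.Smooth k A] (φ : A →ₐ[k] K) (f : A) (hf : f ≠ 0) :
    ∃ χ : A →ₐ[k] PowerSeries K, χ f ≠ 0 ∧ ∀ a, constantCoeff (χ a) = φ a := by
  let T := K ⊗[k] A
  let ψ : T →ₐ[K] K := Algebra.TensorProduct.lift (Algebra.ofId K K) φ fun _ _ => Commute.all _ _
  have hψs : Function.Surjective ψ := fun a => ⟨algebraMap K T a, by simp⟩
  haveI hm : (RingHom.ker ψ).IsMaximal := RingHom.ker_isMaximal_of_surjective ψ hψs
  haveI : Algebra.FiniteType K T := inferInstance
  haveI : Algebra.Smooth K T := inferInstance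
  let B := Localization.AtPrime (RingHom.ker ψ)
  haveI : IsRegularLocalRing B := Comodule.ChevalleyLocal.isRegularLocalRing_of_smooth K _
  let ρ : B →ₐ[K] K := IsLocalization.liftAlgHom (M := (RingHom.ker ψ).primeCompl) (f := ψ)
    fun y => isUnit_iff_ne_zero.2 y.2
  have hf' : algebraMap T B ((1 : K) ⊗ₜ f) ≠ 0 := fun h => by
    obtain ⟨s, hs⟩ := (IsLocalization.map_eq_zero_iff (RingHom.ker ψ).primeCompl B _).1 h
    have hinj : Function.Injective (LinearMap.lTensor K (LinearMap.mulLeft k f)) :=
      Module.Flat.lTensor_preserves_injective_linearMap _ (mul_right_injective₀ hf)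
    have hmul : LinearMap.lTensor K (LinearMap.mulLeft k f) = LinearMap.mulLeft k ((1 : K) ⊗ₜ f : T) := by
      refine TensorProduct.ext' fun a b => ?_
      simp [Algebra.TensorProduct.tmul_mul_tmul]
    rw [hmul] at hinj
    have : (s : T) = 0 := hinj (by simpa [mul_comm] using hs)
    exact s.2 (by rw [this]; simp)
  obtain ⟨d, hd⟩ := RegLocal.exists_nat_ringKrullDim B
  obtain ⟨χ, hχ, hχ0⟩ := exists_arc d hd ρ _ hf'
  let ι : A →ₐ[k] B := (IsScalarTower.toAlgHom k T B).comp Algebra.TensorProduct.includeRight
  refine ⟨(χ.restrictScalars k).comp ι, hχ, fun a => ?_⟩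
  rw [AlgHom.comp_apply, AlgHom.restrictScalars_apply, hχ0]
  show ρ (algebraMap T B ((1 : K) ⊗ₜ a)) = φ a
  rw [IsLocalization.liftAlgHom_apply, IsLocalization.lift_eq]
  exact (Algebra.TensorProduct.lift_tmul _ _ _ _ _).trans (by simp)

end Groth.Agent.RGermLib
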